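import Mathlib
import Groth.Agent.Lib.Azumaya.Constructions

/-!
# Algebras that are fppf-locally a product of two matrix algebras
-/

set_option autoImplicit false
set_option maxHeartbeats 800000
set_option backward.isDefEq.respectTransparency false

universe u v

open TensorProduct

namespace GrothLib.EvenClifford4

variable {R : Type u} [CommRing R] {C : Type v} [Ring C] [Algebra R C] [Module.Finite R C]
  {A : Type u} [CommRing A] [Algebra R A]

/-- Base change of the centre is the centre of the base change. -/
theorem range_map_center [Module.Flat R A] :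
    Function.Injective (Algebra.TensorProduct.map (AlgHom.id A A) (Subalgebra.center R C).val) ∧
      (Algebra.TensorProduct.map (AlgHom.id A A) (Subalgebra.center R C).val).range =
        Subalgebra.center A (A ⊗[R] C) := by
  classical
  obtain ⟨s, hs⟩ := Module.Finite.fg_top (R := R) (M := C)
  let Z := Subalgebra.center R C
  let j := Algebra.TensorProduct.map (AlgHom.id A A) Z.val
  let δ : C →ₗ[R] (s → C) := LinearMap.pi fun i => LinearMap.mulRight R (i : C) - LinearMap.mulLeft R (i : C)
  have hδ : Function.Exact Z.val.toLinearMap δ := by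
    intro x
    refine ⟨fun hx => ⟨⟨x, ?_⟩, rfl⟩, ?_⟩
    · rw [Subalgebra.mem_center_iff]
      intro y
      have hy : y ∈ Submodule.span R (s : Set C) := hs.ge Submodule.mem_top
      induction hy using Submodule.span_induction with
      | mem y hy =>
        have h := congrFun hx ⟨y, hy⟩
        simp only [δ, LinearMap.pi_apply, LinearMap.sub_apply, LinearMap.mulRight_apply,
          LinearMap.mulLeft_apply, Pi.zero_apply, sub_eq_zero] at h
        exact h.symm
      | zero => simp
      | add a b _ _ ha hb => rw [add_mul, mul_add, ha, hb]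
      | smul r a _ ha => rw [smul_mul_assoc, mul_smul_comm, ha]
    · rintro ⟨z, rfl⟩
      funext i
      have h : (i : C) * (z : C) = (z : C) * (i : C) := Subalgebra.mem_center_iff.1 z.2 _
      simp [δ, h]
  have hj : ∀ w, j w = LinearMap.lTensor A Z.val.toLinearMap w := fun w => by
    induction w using TensorProduct.induction_on with
    | zero => simp
    | tmul a z => rfl
    | add a b ha hb => simp [map_add, ha, hb]
  refine ⟨fun a b h => ?_, le_antisymm ?_ fun w hw => ?_⟩
  · refine Module.Flat.lTensor_preserves_injective_linearMap (M := A) Z.val.toLinearMap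
      Subtype.val_injective ?_
    rw [← hj, ← hj]; exact h
  · rintro _ ⟨w, rfl⟩
    rw [Subalgebra.mem_center_iff]
    intro y
    induction w using TensorProduct.induction_on with
    | zero => simp
    | add a b ha hb => simp only [map_add, mul_add, add_mul, ha, hb]
    | tmul a z =>
      induction y using TensorProduct.induction_on with
      | zero => simp
      | add p q hp hq => rw [mul_add, add_mul, hp, hq]
      | tmul b c =>
        simp only [AlgHom.toRingHom_eq_coe, RingHom.coe_coe, Algebra.TensorProduct.map_tmul, AlgHom.id_apply,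
          Algebra.TensorProduct.tmul_mul_tmul]
        rw [mul_comm b a, show c * Z.val z = Z.val z * c from Subalgebra.mem_center_iff.1 z.2 c]
  · have h0 : LinearMap.lTensor A δ w = 0 := by
      apply (TensorProduct.piRight R R A (fun _ : s => C)).injective
      rw [map_zero]
      funext i
      have hi : ∀ w, TensorProduct.piRight R R A (fun _ : s => C) (LinearMap.lTensor A δ w) i =
          w * (1 ⊗ₜ (i : C)) - (1 ⊗ₜ (i : C)) * w := fun w => by
        induction w using TensorProduct.induction_on with
        | zero => simp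
        | tmul a c =>
          simp [δ, Algebra.TensorProduct.tmul_mul_tmul, TensorProduct.tmul_sub]
        | add a b ha hb => simp only [map_add, Pi.add_apply, ha, hb, add_mul, mul_add]; abel
      rw [hi, Subalgebra.mem_center_iff.1 hw, sub_self]
      rfl
    obtain ⟨z, hz⟩ := (Module.Flat.lTensor_exact A hδ w).1 h0
    exact ⟨z, (hj z).trans hz⟩

/-- The scalar matrices are the centre. -/
theorem center_matrix (A : Type u) [CommRing A] (n : ℕ) :
    Subalgebra.center A (Matrix (Fin n) (Fin n) A) = (Algebra.ofId A (Matrix (Fin n) (Fin n) A)).range := by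
  apply SetLike.coe_injective
  show Set.center (Matrix (Fin n) (Fin n) A) = Set.range (algebraMap A (Matrix (Fin n) (Fin n) A))
  rw [Matrix.center_eq_range]
  rfl

theorem main [Module.Projective R C] [Module.FaithfullyFlat R A] (n : ℕ) (hn : 1 ≤ n)
    (e : (A ⊗[R] C) ≃ₐ[A] (Matrix (Fin n) (Fin n) A × Matrix (Fin n) (Fin n) A)) :
    letI : Algebra ↥(Subalgebra.center R C) C :=
      (Subalgebra.center R C).val.toRingHom.toAlgebra'
        (fun c x => (Subalgebra.mem_center_iff.mp c.2 x).symm)
    Algebra.Etale R ↥(Subalgebra.center R C) ∧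
      Module.Finite R ↥(Subalgebra.center R C) ∧
      Module.Projective R ↥(Subalgebra.center R C) ∧
      (∀ p : PrimeSpectrum R, Module.rankAtStalk ↥(Subalgebra.center R C) p = 2) ∧
      IsAzumaya ↥(Subalgebra.center R C) C := by
  classical
  letI : Algebra ↥(Subalgebra.center R C) C :=
      (Subalgebra.center R C).val.toRingHom.toAlgebra'
        (fun c x => (Subalgebra.mem_center_iff.mp c.2 x).symm)
  let Z := Subalgebra.center R C
  let P := Matrix (Fin n) (Fin n) A
  haveI : Nonempty (Fin n) := ⟨⟨0, hn⟩⟩
  let j := Algebra.TensorProduct.map (AlgHom.id A A) Z.val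
  obtain ⟨hjinj, hjrange⟩ := range_map_center (R := R) (C := C) (A := A)
  let Ψ : A ⊗[R] Z →ₐ[A] P × P := e.toAlgHom.comp j
  have hΨinj : Function.Injective Ψ := e.injective.comp hjinj
  let σ : A × A →ₐ[A] P × P := (Algebra.ofId A P).prodMap (Algebra.ofId A P)
  have hσinj : Function.Injective σ := by
    have h1 : Function.Injective (algebraMap A P) := fun a b h => by
      have := congrFun (congrFun h ⟨0, hn⟩) ⟨0, hn⟩
      simpa [P, Matrix.algebraMap_matrix_apply] using this
    intro x y h
    exact Prod.ext (h1 (congrArg Prod.fst h)) (h1 (congrArg Prod.snd h))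
  have hrange : Ψ.range = σ.range := by
    rw [show Ψ.range = j.range.map e.toAlgHom from AlgHom.range_comp _ _, hjrange, AlgHom.range_prodMap,
      ← center_matrix, ← Subalgebra.center_prod]
    ext x
    constructor
    · rintro ⟨y, hy, rfl⟩
      rw [Subalgebra.mem_center_iff]
      intro z
      obtain ⟨z, rfl⟩ := e.surjective z
      show e z * e y = e y * e z
      rw [← map_mul, ← map_mul, Subalgebra.mem_center_iff.1 hy z]
    · intro hx
      refine ⟨e.symm x, ?_, e.apply_symm_apply x⟩
      show e.symm x ∈ Subalgebra.center A (A ⊗[R] C)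
      rw [Subalgebra.mem_center_iff]
      intro z
      apply e.injective
      rw [map_mul, map_mul, e.apply_symm_apply, Subalgebra.mem_center_iff.1 hx]
  let τ : A ⊗[R] Z ≃ₐ[A] A × A :=
    (AlgEquiv.ofInjective Ψ hΨinj).trans ((Subalgebra.equivOfEq _ _ hrange).trans (AlgEquiv.ofInjective σ hσinj).symm)
  have hτ : ∀ w, σ (τ w) = e (j w) := fun w => by
    have h := congrArg Subtype.val ((AlgEquiv.ofInjective σ hσinj).apply_symm_apply
      (Subalgebra.equivOfEq _ _ hrange (AlgEquiv.ofInjective Ψ hΨinj w)))
    exact h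
  haveI : Module.Finite A (A ⊗[R] Z) := Module.Finite.equiv τ.symm.toLinearEquiv
  haveI : Module.Projective A (A ⊗[R] Z) := Module.Projective.of_equiv τ.symm.toLinearEquiv
  obtain ⟨hfin, hproj⟩ := GrothLib.Azu.finite_projective_of_baseChange (R := R) A Z
  have hrk : ∀ p : PrimeSpectrum R, Module.rankAtStalk ↥Z p = 2 := by
    intro p
    obtain ⟨P', rfl⟩ := PrimeSpectrum.comap_surjective_of_faithfullyFlat (A := R) (B := A) p
    rw [← Module.rankAtStalk_baseChange, Module.rankAtStalk_eq_of_equiv τ.toLinearEquiv,
      Module.rankAtStalk_prod]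
    haveI : Nontrivial A := (⟨P'⟩ : Nonempty (PrimeSpectrum A)).elim fun q => ⟨0, 1, fun h => q.2.ne_top
      ((Ideal.eq_top_iff_one _).2 (h ▸ q.asIdeal.zero_mem))⟩
    simp [Module.rankAtStalk_self]
  haveI : Algebra.FormallyUnramified A (A ⊗[R] Z) := by
    haveI : Algebra.FormallyUnramified A (A × A) := ⟨subsingleton_of_forall_eq 0 fun x => by
      have hidem : ∀ e : A × A, e * e = e → KaehlerDifferential.D A (A × A) e = 0 := fun e he => by
        have h := congrArg (KaehlerDifferential.D A (A × A)) he
        rw [Derivation.leibniz, ← add_smul] at h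
        have h2 := congrArg ((2 * e - 1) • ·) h
        simp only [smul_smul] at h2
        rw [show (2 * e - 1) * (e + e) = 2 * e by linear_combination (4 : A × A) * he, sub_smul, one_smul,
          eq_sub_iff_add_eq, add_eq_left] at h2
        exact h2
      have hD : ∀ p : A × A, KaehlerDifferential.D A (A × A) p = 0 := fun p => by
        rw [show p = p.1 • ((1 : A), (0 : A)) + p.2 • ((0 : A), (1 : A)) by ext <;> simp, map_add,
          Derivation.map_smul, Derivation.map_smul, hidem _ (by ext <;> simp), hidem _ (by ext <;> simp),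
          smul_zero, smul_zero, add_zero]
      have hx : x ∈ Submodule.span (A × A) (Set.range (KaehlerDifferential.D A (A × A))) :=
        (KaehlerDifferential.span_range_derivation A (A × A)).ge Submodule.mem_top
      induction hx using Submodule.span_induction with
      | mem y hy => obtain ⟨p, rfl⟩ := hy; exact hD p
      | zero => rfl
      | add a b _ _ ha hb => rw [ha, hb, add_zero]
      | smul c a _ ha => rw [ha, smul_zero]⟩
    exact Algebra.FormallyUnramified.of_equiv τ.symm
  haveI : Algebra.FormallyUnramified R Z := by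
    constructor
    haveI hsub : Subsingleton (A ⊗[R] Ω[Z⁄R]) := by
      haveI : Subsingleton Ω[(A ⊗[R] Z)⁄A] := inferInstance
      letI : Algebra Z (A ⊗[R] Z) := Algebra.TensorProduct.rightAlgebra
      exact (KaehlerDifferential.tensorKaehlerEquivBase R A Z (A ⊗[R] Z)).toEquiv.subsingleton
    exact Module.FaithfullyFlat.lTensor_reflects_triviality R A _
  haveI : Module.FinitePresentation R Z := Module.finitePresentation_of_projective R Z
  haveI : Algebra.FinitePresentation R Z := Algebra.FinitePresentation.of_finitePresentation R Z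
  have het : Algebra.Etale R Z := Algebra.Etale.of_formallyUnramified_of_flat
  haveI : IsScalarTower R Z C := .of_algebraMap_eq fun r => rfl
  haveI : Module.Finite Z C := Module.Finite.of_restrictScalars_finite R Z C
  haveI : Algebra.EssFiniteType R Z := inferInstance
  haveI : Module.Projective Z C := Algebra.FormallyUnramified.projective_of_restrictScalars R Z C
  refine ⟨het, hfin, hproj, hrk, GrothLib.Azu.isAzumaya_of_forall_maximal.{v, u, v} ↥Z C fun m hm => ?_⟩
  -- a point over `m`
  obtain ⟨M, hM⟩ : ∃ M : PrimeSpectrum (A ⊗[R] Z),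
      M.asIdeal.comap (Algebra.TensorProduct.includeRight : Z →ₐ[R] A ⊗[R] Z).toRingHom = m := by
    haveI := hm
    haveI : Nontrivial (↥Z ⧸ m) := Ideal.Quotient.nontrivial_iff.2 hm.ne_top
    haveI : Nontrivial (A ⊗[R] (↥Z ⧸ m)) := Module.FaithfullyFlat.lTensor_nontrivial R A _
    obtain ⟨Q, hQ⟩ := Ideal.exists_maximal (A ⊗[R] (↥Z ⧸ m))
    let φ := Algebra.TensorProduct.map (AlgHom.id R A) (Ideal.Quotient.mkₐ R m)
    refine ⟨⟨Q.comap φ.toRingHom, Ideal.IsPrime.comap _⟩, ?_⟩
    refine (hm.eq_of_le ?_ fun z hz => ?_).symm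
    · exact Ideal.comap_ne_top _ (Ideal.comap_ne_top _ hQ.ne_top)
    · show φ (1 ⊗ₜ z) ∈ Q
      have h0 : φ (1 ⊗ₜ z) = 0 := by simp [φ, Ideal.Quotient.eq_zero_iff_mem.2 hz]
      rw [h0]; exact zero_mem _
  -- the factor
  have key : ∀ (π : A × A →ₐ[A] A) (π' : P × P →ₐ[A] P) (ι : P →ₗ[A] P × P) (ε : A × A),
      (∀ x, π' (σ x) = algebraMap A P (π x)) → (∀ x, π' (ι x) = x) → (∀ x, ι (π' x) = x * σ ε) → π ε = 1 →
      ∀ q : Ideal A, q ≠ ⊤ →
      (∀ z : Z, z ∈ m → π (τ (1 ⊗ₜ z)) ∈ q) →
      ∃ (L : Type u) (_ : CommRing L) (_ : Algebra Z L),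
        Nontrivial L ∧ m ≤ RingHom.ker (algebraMap Z L) ∧ IsAzumaya L (L ⊗[Z] C) := by
    intro π π' ι ε hπσ hπι hιπ hε q hq hqm
    let χ : Z →ₐ[R] A := ((π.comp τ.toAlgHom).restrictScalars R).comp Algebra.TensorProduct.includeRight
    letI : Algebra Z A := χ.toRingHom.toAlgebra
    haveI : IsScalarTower R Z A := .of_algebraMap_eq fun r => (χ.commutes r).symm
    let e1 : A ⊗[R] C →ₐ[A] P := π'.comp e.toAlgHom
    have hz : ∀ (z : Z) (c : C), e1 (1 ⊗ₜ ((z : C) * c)) = χ z • e1 (1 ⊗ₜ c) := fun z c => by
      rw [show (1 : A) ⊗ₜ[R] ((z : C) * c) = j (1 ⊗ₜ z) * (1 ⊗ₜ c) by simp [j], map_mul, Algebra.smul_def]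
      congr 1
      show π' (e (j (1 ⊗ₜ z))) = _
      rw [← hτ, hπσ]
      rfl
    let h : C →ₐ[Z] P :=
      { toFun := fun c => e1 (1 ⊗ₜ c)
        map_one' := map_one e1
        map_mul' := fun a b => by rw [← map_mul, Algebra.TensorProduct.tmul_mul_tmul, one_mul]
        map_zero' := by rw [TensorProduct.tmul_zero, map_zero]
        map_add' := fun a b => by rw [TensorProduct.tmul_add, map_add]
        commutes' := fun z => by
          show e1 (1 ⊗ₜ (z : C)) = _
          have h0 := hz z 1
          rw [mul_one] at h0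
          rw [h0, IsScalarTower.algebraMap_apply Z A P, Algebra.smul_def]
          show algebraMap A P (χ z) * e1 1 = _
          rw [map_one, mul_one]
          rfl }
    let F : A ⊗[Z] C →ₐ[A] P := Algebra.TensorProduct.lift (Algebra.ofId A P) h fun a c => Algebra.commutes a _
    let can : A ⊗[R] C →ₐ[A] A ⊗[Z] C := Algebra.TensorProduct.lift (Algebra.ofId A _)
      ((Algebra.TensorProduct.includeRight : C →ₐ[Z] A ⊗[Z] C).restrictScalars R) fun a c => Algebra.commutes a _
    have hcan : ∀ (a : A) (c : C), can (a ⊗ₜ c) = a ⊗ₜ c := fun a c => by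
      show algebraMap A (A ⊗[Z] C) a * ((1 : A) ⊗ₜ[Z] c) = _
      rw [Algebra.TensorProduct.algebraMap_apply, Algebra.TensorProduct.tmul_mul_tmul, one_mul]
      simp
    have hFcan : ∀ x, F (can x) = e1 x := fun x => by
      induction x using TensorProduct.induction_on with
      | zero => simp
      | tmul a c =>
        rw [hcan]
        simp only [F, Algebra.TensorProduct.lift_tmul]
        show algebraMap A P a * e1 (1 ⊗ₜ c) = _
        rw [← Algebra.smul_def, ← map_smul, TensorProduct.smul_tmul', smul_eq_mul, mul_one]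
      | add a b ha hb => simp only [map_add, ha, hb]
    have hcanj : ∀ w : A ⊗[R] Z, can (j w) = algebraMap A (A ⊗[Z] C) (π (τ w)) := fun w => by
      induction w using TensorProduct.induction_on with
      | zero => simp
      | tmul a z =>
        rw [show j (a ⊗ₜ z) = a ⊗ₜ (z : C) from rfl, hcan, show (z : C) = z • (1 : C) by
            rw [Algebra.smul_def, mul_one]; rfl,
          show a ⊗ₜ[Z] (z • (1 : C)) = (z • a) ⊗ₜ[Z] (1 : C) from (TensorProduct.smul_tmul z a (1 : C)).symm,
          Algebra.TensorProduct.algebraMap_apply]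
        congr 1
        show χ z * a = π (τ (a ⊗ₜ z))
        rw [show a ⊗ₜ[R] z = a • ((1 : A) ⊗ₜ[R] z) by rw [TensorProduct.smul_tmul', smul_eq_mul, mul_one],
          map_smul, map_smul, smul_eq_mul, mul_comm]
        rfl
      | add a b ha hb => simp only [map_add, ha, hb]
    have hF : Function.Bijective F := by
      refine Function.bijective_iff_has_inverse.2 ⟨fun p => can (e.symm (ι p)), fun y => ?_, fun p => ?_⟩
      · obtain ⟨x, rfl⟩ : ∃ x, can x = y := by
          induction y using TensorProduct.induction_on with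
          | zero => exact ⟨0, map_zero _⟩
          | tmul a c => exact ⟨a ⊗ₜ c, hcan a c⟩
          | add a b ha hb =>
            obtain ⟨x, rfl⟩ := ha; obtain ⟨y, rfl⟩ := hb
            exact ⟨x + y, map_add _ _ _⟩
        show can (e.symm (ι (F (can x)))) = can x
        rw [hFcan, show e1 x = π' (e x) from rfl, hιπ, map_mul, e.symm_apply_apply, map_mul]
        have : e.symm (σ ε) = j (τ.symm ε) := by
          apply e.injective
          rw [e.apply_symm_apply, ← hτ, τ.apply_symm_apply]
        rw [this, hcanj, τ.apply_symm_apply, hε, map_one, mul_one]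
      · show F (can (e.symm (ι p))) = p
        rw [hFcan, show e1 (e.symm (ι p)) = π' (e (e.symm (ι p))) from rfl, e.apply_symm_apply, hπι]
    haveI : IsAzumaya A P := IsAzumaya.matrix A (Fin n)
    haveI : IsAzumaya A (A ⊗[Z] C) := IsAzumaya.of_AlgEquiv A _ _ (AlgEquiv.ofBijective F hF).symm
    refine ⟨A ⧸ q, inferInstance, inferInstance, Ideal.Quotient.nontrivial_iff.2 hq, fun z hzm => ?_,
      GrothLib.Azu.isAzumaya_baseChange_of_tower Z C (A ⧸ q) A⟩
    exact Ideal.Quotient.eq_zero_iff_mem.2 (hqm z hzm)
  -- choose the factor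
  let M₂ : Ideal (A × A) := M.asIdeal.comap τ.symm.toAlgHom.toRingHom
  haveI : M₂.IsPrime := Ideal.IsPrime.comap _
  have hmem : ∀ z : Z, z ∈ m → τ (1 ⊗ₜ z) ∈ M₂ := fun z hz => by
    show τ.symm (τ (1 ⊗ₜ z)) ∈ M.asIdeal
    rw [τ.symm_apply_apply]
    rw [← hM] at hz
    exact hz
  rcases (Ideal.ideal_prod_prime M₂).1 inferInstance with ⟨q, hq, hMq⟩ | ⟨q, hq, hMq⟩
  · refine key (AlgHom.fst A A A) (AlgHom.fst A P P) (LinearMap.inl A P P) (1, 0) (fun x => rfl) (fun x => rfl)
      (fun x => ?_) rfl q hq.ne_top fun z hz => ?_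
    · exact Prod.ext (by simp [σ, AlgHom.prodMap]) (by simp [σ, AlgHom.prodMap])
    · have := hmem z hz
      rw [hMq] at this
      exact this.1
  · refine key (AlgHom.snd A A A) (AlgHom.snd A P P) (LinearMap.inr A P P) (0, 1) (fun x => rfl) (fun x => rfl)
      (fun x => ?_) rfl q hq.ne_top fun z hz => ?_
    · exact Prod.ext (by simp [σ, AlgHom.prodMap]) (by simp [σ, AlgHom.prodMap])
    · have := hmem z hz
      rw [hMq] at this
      exact this.2

end GrothLib.EvenClifford4
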